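import Groth.Agent.L24.Princ.Points
import Mathlib.RingTheory.Flat.Basic
import Mathlib.LinearAlgebra.TensorProduct.RightExactness
import Mathlib.RingTheory.TensorProduct.Maps

/-!
# Points of torsors under affine group schemes over an algebraically closed field, algebraically
-/

set_option autoImplicit false
set_option linter.style.haveILetI false

universe u

open TensorProduct

namespace Groth.L09.TorsorPoint

open Groth.L25 Groth.L24.Princ

variable {k : Type u} [Field k] {H A : Type u} [CommRing H] [HopfAlgebra k H] [CommRing A] [Algebra k A]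

/-- A coaction whose shear map is bijective. -/
structure Torsor (k H A : Type u) [Field k] [CommRing H] [HopfAlgebra k H] [CommRing A] [Algebra k A] where
  /-- the coaction -/
  ρ : A →ₐ[k] H ⊗[k] A
  coassoc : (Algebra.TensorProduct.assoc k k k H H A).toAlgHom.comp
      ((Algebra.TensorProduct.map (Bialgebra.comulAlgHom k H) (AlgHom.id k A)).comp ρ) =
    (Algebra.TensorProduct.map (AlgHom.id k H) ρ).comp ρ
  bij : Function.Bijective
    (Algebra.TensorProduct.lift ρ Algebra.TensorProduct.includeRight fun _ _ => Commute.all _ _)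

namespace Torsor

variable (T : Torsor k H A)

/-- The shear map. -/
noncomputable abbrev Φ : A ⊗[k] A →ₐ[k] H ⊗[k] A :=
  Algebra.TensorProduct.lift T.ρ Algebra.TensorProduct.includeRight fun _ _ => Commute.all _ _

/-- `C ⊗ A` inside `H ⊗ A`. -/
noncomputable abbrev ext (C : Subalgebra k H) : Subalgebra k (H ⊗[k] A) :=
  (Algebra.TensorProduct.map C.val (AlgHom.id k A)).range

/-- The part of the torsor over a sub-Hopf-algebra. -/
noncomputable def part (C : Subalgebra k H) : Subalgebra k A := (ext (A := A) C).comap T.ρ

theorem ext_mono {C D : Subalgebra k H} (h : C ≤ D) : ext (A := A) C ≤ ext D := by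
  rintro _ ⟨z, rfl⟩
  refine ⟨Algebra.TensorProduct.map (Subalgebra.inclusion h) (AlgHom.id k A) z, ?_⟩
  induction z with
  | zero => simp
  | add a b ha hb => simp only [map_add, ha, hb]
  | tmul c a => rfl

theorem part_mono {C D : Subalgebra k H} (h : C ≤ D) : T.part C ≤ T.part D := fun _ ha => ext_mono h ha

theorem mem_range_map_iff {M N : Type u} [AddCommGroup M] [Module k M] [AddCommGroup N] [Module k N]
    (W : Submodule k M) (z : M ⊗[k] N) :
    z ∈ LinearMap.range (W.subtype.rTensor N) ↔ W.mkQ.rTensor N z = 0 := by
  have h : Function.Exact (W.subtype.rTensor N) (W.mkQ.rTensor N) :=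
    rTensor_exact N (LinearMap.exact_subtype_mkQ W) (Submodule.mkQ_surjective W)
  exact (h z).symm

theorem mem_ext_iff (C : Subalgebra k H) (z : H ⊗[k] A) :
    z ∈ ext C ↔ (Subalgebra.toSubmodule C).mkQ.rTensor A z = 0 := by
  rw [← mem_range_map_iff]
  rfl

theorem shear_coassoc (z : A ⊗[k] A) :
    Algebra.TensorProduct.map (AlgHom.id k H) T.Φ
        (Algebra.TensorProduct.assoc k k k H A A (Algebra.TensorProduct.map T.ρ (AlgHom.id k A) z)) =
      Algebra.TensorProduct.assoc k k k H H A
        (Algebra.TensorProduct.map (Bialgebra.comulAlgHom k H) (AlgHom.id k A) (T.Φ z)) := by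
  refine AlgHom.congr_fun (φ₁ := (Algebra.TensorProduct.map (AlgHom.id k H) T.Φ).comp
    ((Algebra.TensorProduct.assoc k k k H A A).toAlgHom.comp (Algebra.TensorProduct.map T.ρ (AlgHom.id k A))))
    (φ₂ := (Algebra.TensorProduct.assoc k k k H H A).toAlgHom.comp
      ((Algebra.TensorProduct.map (Bialgebra.comulAlgHom k H) (AlgHom.id k A)).comp T.Φ)) ?_ z
  refine Algebra.TensorProduct.ext (AlgHom.ext fun a => ?_) (AlgHom.ext fun b => ?_)
  · have h := AlgHom.congr_fun T.coassoc a
    simp only [AlgHom.comp_apply] at h
    simp only [AlgHom.comp_apply, Algebra.TensorProduct.includeLeft_apply, Algebra.TensorProduct.lift_tmul,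
      map_one, mul_one, Algebra.TensorProduct.map_tmul, AlgHom.coe_id, id_eq]
    refine Eq.trans ?_ h.symm
    generalize T.ρ a = w
    induction w with
    | zero => simp [TensorProduct.zero_tmul]
    | add p q hp hq => simp only [TensorProduct.add_tmul, map_add, hp, hq]
    | tmul x y => simp [← Algebra.TensorProduct.one_def]
  · simp only [AlgHom.comp_apply, AlgHom.coe_restrictScalars', Algebra.TensorProduct.includeRight_apply,
      Algebra.TensorProduct.lift_tmul, map_one, one_mul, Algebra.TensorProduct.map_tmul, AlgHom.coe_id, id_eq,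
      Algebra.TensorProduct.one_def]
    simp [Algebra.TensorProduct.one_def]

theorem mem_of_comul_mem {C : Subalgebra k H} {h : H}
    (hh : (Subalgebra.toSubmodule C).mkQ.rTensor H (Coalgebra.comul (R := k) h) = 0) : h ∈ C := by
  obtain ⟨w, hw⟩ := (mem_range_map_iff _ _).2 hh
  have h1 := congrArg ((TensorProduct.rid k H).toLinearMap ∘ₗ (Coalgebra.counit (R := k) (A := H)).lTensor H) hw.symm
  simp only [LinearMap.comp_apply, LinearEquiv.coe_coe, Coalgebra.lTensor_counit_comul, TensorProduct.rid_tmul,
    one_smul] at h1
  rw [h1]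
  clear h1 hw
  induction w with
  | zero => simp
  | add a b ha hb => simp only [map_add]; exact C.add_mem ha hb
  | tmul c x =>
    simp only [LinearMap.rTensor_tmul, Submodule.coe_subtype, LinearMap.lTensor_tmul, TensorProduct.rid_tmul]
    exact C.smul_mem c.2 _

/-- The part over `C` becomes `C ⊗ A` after the shear. -/
theorem shear_part (C : Subalgebra k H) (hC : SGA3.IsHopfSubalgebra k H C) (z : A ⊗[k] A) :
    z ∈ LinearMap.range ((Subalgebra.toSubmodule (T.part C)).subtype.rTensor A) ↔ T.Φ z ∈ ext C := by
  let q := (Subalgebra.toSubmodule C).mkQ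
  let f : A →ₗ[k] (H ⧸ Subalgebra.toSubmodule C) ⊗[k] A := (q.rTensor A).comp T.ρ.toLinearMap
  have hf : LinearMap.ker f = Subalgebra.toSubmodule (T.part C) := by
    ext a
    exact (mem_ext_iff C _).symm
  let g : H →ₗ[k] (H ⧸ Subalgebra.toSubmodule C) ⊗[k] H :=
    (q.rTensor H).comp (Coalgebra.comul (R := k) (A := H))
  have hg : LinearMap.ker g = Subalgebra.toSubmodule C := by
    ext h
    refine ⟨fun hh => mem_of_comul_mem hh, fun hh => ?_⟩
    obtain ⟨w, hw⟩ := hC.1 h hh
    change q.rTensor H (Coalgebra.comul (R := k) h) = 0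
    rw [← hw]
    clear hw
    induction w with
    | zero => simp
    | add a b ha hb => simp only [map_add, ha, hb, add_zero]
    | tmul a b =>
      simp only [TensorProduct.map_tmul, LinearMap.rTensor_tmul]
      rw [show q ((C.val.toLinearMap) a) = 0 from (Submodule.Quotient.mk_eq_zero _).2 a.2, zero_tmul]
  have e1 : z ∈ LinearMap.range ((Subalgebra.toSubmodule (T.part C)).subtype.rTensor A) ↔ f.rTensor A z = 0 := by
    have h := Module.Flat.rTensor_exact A (LinearMap.exact_subtype_ker_map f)
    rw [hf] at h
    exact (h z).symm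
  have e2 : T.Φ z ∈ ext C ↔ g.rTensor A (T.Φ z) = 0 := by
    have h := Module.Flat.rTensor_exact A (LinearMap.exact_subtype_ker_map g)
    rw [hg] at h
    exact ((h _).trans Iff.rfl).symm
  rw [e1, e2]
  let L := (T.Φ.toLinearMap.lTensor (H ⧸ Subalgebra.toSubmodule C))
  have hL : Function.Bijective L :=
    ((LinearEquiv.ofBijective T.Φ.toLinearMap T.bij).lTensor (H ⧸ Subalgebra.toSubmodule C)).bijective
  have key : L (TensorProduct.assoc k _ A A (f.rTensor A z)) =
      TensorProduct.assoc k _ H A (g.rTensor A (T.Φ z)) := by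
    have h := congrArg (q.rTensor (H ⊗[k] A)) (T.shear_coassoc z)
    have ha : ∀ w : A ⊗[k] A, q.rTensor (H ⊗[k] A) (Algebra.TensorProduct.map (AlgHom.id k H) T.Φ
        (Algebra.TensorProduct.assoc k k k H A A (Algebra.TensorProduct.map T.ρ (AlgHom.id k A) w))) =
        L (TensorProduct.assoc k _ A A (f.rTensor A w)) := fun w => by
      induction w with
      | zero => simp
      | add a b ha hb => simp only [map_add, ha, hb]
      | tmul a b =>
        simp only [Algebra.TensorProduct.map_tmul, AlgHom.coe_id, id_eq, LinearMap.rTensor_tmul]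
        change _ = L (TensorProduct.assoc k _ A A (q.rTensor A (T.ρ a) ⊗ₜ[k] b))
        generalize T.ρ a = w
        induction w with
        | zero => simp [TensorProduct.zero_tmul]
        | add p r hp hr => simp only [TensorProduct.add_tmul, map_add, hp, hr]
        | tmul x y => simp [L]
    have hb : ∀ w : H ⊗[k] A, q.rTensor (H ⊗[k] A) (Algebra.TensorProduct.assoc k k k H H A
        (Algebra.TensorProduct.map (Bialgebra.comulAlgHom k H) (AlgHom.id k A) w)) =
        TensorProduct.assoc k _ H A (g.rTensor A w) := fun w => by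
      induction w with
      | zero => simp
      | add a b ha hb => simp only [map_add, ha, hb]
      | tmul a b =>
        simp only [Algebra.TensorProduct.map_tmul, AlgHom.coe_id, id_eq, LinearMap.rTensor_tmul,
          Bialgebra.comulAlgHom_apply]
        change _ = TensorProduct.assoc k _ H A (q.rTensor H (Coalgebra.comul (R := k) a) ⊗ₜ[k] b)
        generalize Coalgebra.comul (R := k) a = w
        induction w with
        | zero => simp [TensorProduct.zero_tmul]
        | add p r hp hr => simp only [TensorProduct.add_tmul, map_add, hp, hr]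
        | tmul x y => simp
    rw [ha, hb] at h
    exact h
  constructor
  · intro h
    rw [h, map_zero, map_zero] at key
    exact (LinearEquiv.map_eq_zero_iff _).1 key.symm
  · intro h
    rw [h, map_zero] at key
    exact (LinearEquiv.map_eq_zero_iff _).1 (hL.1 (key.trans (map_zero L).symm))

end Torsor

end Groth.L09.TorsorPoint
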