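import Groth.Agent.L09.TorsorPoint.Algebra

/-!
# Zorn's lemma for points of torsors
-/

set_option autoImplicit false
set_option linter.style.haveILetI false
set_option backward.isDefEq.respectTransparency.types false

universe u

open TensorProduct

namespace Groth.L09.TorsorPoint

open Groth.L25 Groth.L24.Princ

variable {k : Type u} [Field k] {H A : Type u} [CommRing H] [HopfAlgebra k H] [CommRing A] [Algebra k A]

/-- A submodule of `A` whose base change contains that of another one contains it. -/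
theorem le_of_rTensor_le [Nontrivial A] {V W : Submodule k A}
    (h : LinearMap.range (V.subtype.rTensor A) ≤ LinearMap.range (W.subtype.rTensor A)) : V ≤ W := by
  obtain ⟨ε, hε⟩ := (Algebra.linearMap k A).exists_leftInverse_of_injective
    (LinearMap.ker_eq_bot.2 (algebraMap k A).injective)
  have hε1 : ε 1 = 1 := by simpa using LinearMap.congr_fun hε 1
  intro v hv
  obtain ⟨w, hw⟩ := h ⟨(⟨v, hv⟩ : V) ⊗ₜ[k] (1 : A), rfl⟩
  have h1 := congrArg ((TensorProduct.rid k A).toLinearMap ∘ₗ ε.lTensor A) hw.symm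
  simp only [LinearMap.rTensor_tmul, Submodule.coe_subtype, LinearMap.comp_apply, LinearMap.lTensor_tmul, hε1,
    LinearEquiv.coe_coe, TensorProduct.rid_tmul, one_smul] at h1
  rw [h1]
  clear h1 hw
  induction w with
  | zero => simp
  | add a b ha hb => simp only [map_add]; exact W.add_mem ha hb
  | tmul c x =>
    simp only [LinearMap.rTensor_tmul, Submodule.coe_subtype, LinearMap.lTensor_tmul, TensorProduct.rid_tmul]
    exact W.smul_mem _ c.2

theorem le_of_ext_le [Nontrivial A] {C D : Subalgebra k H}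
    (h : Torsor.ext (A := A) C ≤ Torsor.ext D) : C ≤ D := by
  obtain ⟨ε, hε⟩ := (Algebra.linearMap k A).exists_leftInverse_of_injective
    (LinearMap.ker_eq_bot.2 (algebraMap k A).injective)
  have hε1 : ε 1 = 1 := by simpa using LinearMap.congr_fun hε 1
  intro v hv
  obtain ⟨w, hw0⟩ := h ⟨(⟨v, hv⟩ : C) ⊗ₜ[k] (1 : A), rfl⟩
  have hw : Algebra.TensorProduct.map D.val (AlgHom.id k A) w = v ⊗ₜ[k] (1 : A) := hw0
  clear hw0
  have h1 := congrArg ((TensorProduct.rid k H).toLinearMap ∘ₗ ε.lTensor H) hw.symm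
  simp only [Algebra.TensorProduct.map_tmul, AlgHom.coe_id, id_eq, Subalgebra.coe_val, LinearMap.comp_apply,
    LinearMap.lTensor_tmul, hε1, LinearEquiv.coe_coe, TensorProduct.rid_tmul, one_smul] at h1
  change v ∈ D
  rw [h1]
  clear h1 hw
  induction w with
  | zero => simp
  | add a b ha hb => simp only [map_add]; exact D.add_mem ha hb
  | tmul c x =>
    simp only [Algebra.TensorProduct.map_tmul, AlgHom.coe_id, id_eq, LinearEquiv.coe_coe, LinearMap.comp_apply,
      LinearMap.lTensor_tmul, TensorProduct.rid_tmul]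
    exact D.smul_mem c.2 _

/-- The join of base changes. -/
theorem ext_sup_le {C D : Subalgebra k H} :
    Torsor.ext (A := A) (C ⊔ D) ≤ Torsor.ext C ⊔ Torsor.ext D := by
  rintro _ ⟨z, rfl⟩
  induction z with
  | zero => simp
  | add a b ha hb => simp only [map_add]; exact Subalgebra.add_mem _ ha hb
  | tmul c x =>
    have hc : (c : H) ∈ (Torsor.ext (A := A) C ⊔ Torsor.ext D).comap Algebra.TensorProduct.includeLeft := by
      refine (sup_le ?_ ?_ : C ⊔ D ≤ _) c.2
      · exact fun y hy => le_sup_left (a := Torsor.ext (A := A) C) ⟨(⟨y, hy⟩ : C) ⊗ₜ 1, rfl⟩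
      · exact fun y hy => le_sup_right (a := Torsor.ext (A := A) C) ⟨(⟨y, hy⟩ : D) ⊗ₜ 1, rfl⟩
    have h1 : (1 : H) ⊗ₜ[k] x ∈ Torsor.ext (A := A) C ⊔ Torsor.ext D :=
      le_sup_left (a := Torsor.ext (A := A) C) ⟨(1 : C) ⊗ₜ x, rfl⟩
    have h2 := Subalgebra.mul_mem (Torsor.ext (A := A) C ⊔ Torsor.ext D) hc h1
    simpa [Algebra.TensorProduct.includeLeft_apply] using h2

namespace Torsor

variable (T : Torsor k H A)

/-- The image of the base change of a subalgebra of the torsor algebra. -/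
noncomputable abbrev img (V : Subalgebra k A) : Subalgebra k (A ⊗[k] A) :=
  (Algebra.TensorProduct.map V.val (AlgHom.id k A)).range

theorem mem_img_part (C : Subalgebra k H) (hC : SGA3.IsHopfSubalgebra k H C) (z : A ⊗[k] A) :
    z ∈ img (T.part C) ↔ T.Φ z ∈ ext C := T.shear_part C hC z

theorem map_img_part (C : Subalgebra k H) (hC : SGA3.IsHopfSubalgebra k H C) :
    (img (T.part C)).map T.Φ = ext C := by
  refine le_antisymm ?_ fun w hw => ?_
  · rintro _ ⟨z, hz, rfl⟩; exact (T.mem_img_part C hC z).1 hz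
  · obtain ⟨z, rfl⟩ := T.bij.2 w
    exact ⟨z, (T.mem_img_part C hC z).2 hw, rfl⟩

theorem sub_of_img_le [Nontrivial A] {V W : Subalgebra k A} (h : img V ≤ img W) : V ≤ W :=
  le_of_rTensor_le (V := Subalgebra.toSubmodule V) (W := Subalgebra.toSubmodule W) fun z hz => by
    obtain ⟨w, rfl⟩ := h (show z ∈ img V from hz)
    exact ⟨w, rfl⟩

theorem part_le_iff [Nontrivial A] {C D : Subalgebra k H} (hC : SGA3.IsHopfSubalgebra k H C)
    (hD : SGA3.IsHopfSubalgebra k H D) : T.part C ≤ T.part D ↔ C ≤ D := by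
  refine ⟨fun h => le_of_ext_le (A := A) ?_, T.part_mono⟩
  rw [← T.map_img_part C hC, ← T.map_img_part D hD]
  refine Subalgebra.map_mono ?_
  rintro _ ⟨z, rfl⟩
  induction z with
  | zero => simp
  | add a b ha hb => rw [map_add]; exact Subalgebra.add_mem _ ha hb
  | tmul c x => exact ⟨(⟨c, h c.2⟩ : T.part D) ⊗ₜ x, rfl⟩

/-- A torsor over a bigger sub-Hopf-algebra is generated by finitely many elements over a smaller one. -/
theorem exists_part_gen [Nontrivial A] {C B : Subalgebra k H} (hC : SGA3.IsHopfSubalgebra k H C)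
    (hB : SGA3.IsHopfSubalgebra k H B) (hBfg : B.FG) :
    ∃ F : Finset A, T.part (C ⊔ B) = T.part C ⊔ Algebra.adjoin k (F : Set A) := by
  classical
  obtain ⟨g, hg⟩ := hBfg
  have hpre : ∀ b : g, ∃ z : (T.part (C ⊔ B)) ⊗[k] A,
      T.Φ (Algebra.TensorProduct.map (T.part (C ⊔ B)).val (AlgHom.id k A) z) = (b : H) ⊗ₜ[k] 1 := by
    intro b
    obtain ⟨z, hz⟩ := T.bij.2 ((b : H) ⊗ₜ[k] 1)
    have hb : (b : H) ∈ C ⊔ B := le_sup_right (a := C) (hg ▸ Algebra.subset_adjoin b.2)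
    obtain ⟨w, hw⟩ : z ∈ img (T.part (C ⊔ B)) :=
      (T.mem_img_part _ (isHopfSubalgebra_sup hC hB) z).2 (hz ▸ ⟨(⟨_, hb⟩ : ↥(C ⊔ B)) ⊗ₜ 1, rfl⟩)
    exact ⟨w, (congrArg T.Φ hw).trans hz⟩
  choose z hz using hpre
  choose S hS using fun b => TensorProduct.exists_finset (R := k) (z b)
  let F : Finset A := Finset.univ.biUnion fun b => (S b).image fun p => (p.1 : A)
  refine ⟨F, le_antisymm (sub_of_img_le (A := A) ?_) (sup_le (T.part_mono le_sup_left) ?_)⟩
  · set W := T.part C ⊔ Algebra.adjoin k (F : Set A)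
    intro x hx
    have hx' : T.Φ x ∈ ext (C ⊔ B) := (T.mem_img_part _ (isHopfSubalgebra_sup hC hB) x).1 hx
    have hle : ext (C ⊔ B) ≤ (img W).map T.Φ := by
      refine ext_sup_le.trans (sup_le ?_ ?_)
      · rw [← T.map_img_part C hC]
        refine Subalgebra.map_mono ?_
        rintro _ ⟨w, rfl⟩
        induction w with
        | zero => simp
        | add a b ha hb => rw [map_add]; exact Subalgebra.add_mem _ ha hb
        | tmul c y => exact ⟨(⟨c, le_sup_left (a := T.part C) c.2⟩ : W) ⊗ₜ y, rfl⟩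
      · rintro _ ⟨w, rfl⟩
        induction w with
        | zero => simp
        | add a b ha hb => rw [map_add]; exact Subalgebra.add_mem _ ha hb
        | tmul c y =>
          have hone : (1 : H) ⊗ₜ[k] y ∈ (img W).map T.Φ :=
            ⟨(1 : A) ⊗ₜ[k] y, ⟨(1 : W) ⊗ₜ y, rfl⟩, by simp⟩
          have hgen : (c : H) ∈ ((img W).map T.Φ).comap Algebra.TensorProduct.includeLeft := by
            have hc : (c : H) ∈ Algebra.adjoin k (g : Set H) := hg.symm ▸ c.2
            refine Algebra.adjoin_le ?_ hc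
            intro b hb
            refine ⟨_, ?_, hz ⟨b, hb⟩⟩
            rw [hS ⟨b, hb⟩, map_sum]
            refine Subalgebra.sum_mem _ fun p hp => ⟨(⟨p.1, le_sup_right (a := T.part C) (Algebra.subset_adjoin
              (Finset.mem_biUnion.2 ⟨⟨b, hb⟩, Finset.mem_univ _, Finset.mem_image_of_mem _ hp⟩))⟩ : W) ⊗ₜ p.2, rfl⟩
          have h2 := Subalgebra.mul_mem ((img W).map T.Φ) hgen hone
          simpa [Algebra.TensorProduct.includeLeft_apply] using h2
    obtain ⟨x', hx1, hx2⟩ := hle hx'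
    exact T.bij.1 hx2 ▸ hx1
  · refine Algebra.adjoin_le fun a ha => ?_
    obtain ⟨b, -, hb⟩ := Finset.mem_biUnion.1 ha
    obtain ⟨p, -, rfl⟩ := Finset.mem_image.1 hb
    exact p.1.2

/-- The fibre over a point is not empty. -/
theorem map_ker_ne_top [Nontrivial A] (C : Subalgebra k H) (hC : SGA3.IsHopfSubalgebra k H C)
    (χ : T.part C →ₐ[k] k) : (RingHom.ker χ).map (T.part C).val ≠ ⊤ := by
  classical
  intro htop
  haveI := HopfFlat.faithfullyFlat C hC
  let R := T.part C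
  -- the shear restricted to the part
  let i : R ⊗[k] A →ₐ[k] A ⊗[k] A := Algebra.TensorProduct.map R.val (AlgHom.id k A)
  let jC : C ⊗[k] A →ₐ[k] H ⊗[k] A := Algebra.TensorProduct.map C.val (AlgHom.id k A)
  have hjC : Function.Injective jC :=
    Module.Flat.rTensor_preserves_injective_linearMap (M := A) C.val.toLinearMap Subtype.val_injective
  let e := AlgEquiv.ofInjective jC hjC
  let φ : R ⊗[k] A →ₐ[k] C ⊗[k] A := e.symm.toAlgHom.comp ((T.Φ.comp i).codRestrict _ fun z =>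
    (T.mem_img_part C hC _).1 ⟨z, rfl⟩)
  have hφ : ∀ z, jC (φ z) = T.Φ (i z) := fun z => congrArg Subtype.val (e.apply_symm_apply _)
  have hi : Function.Injective i :=
    Module.Flat.rTensor_preserves_injective_linearMap (M := A) R.val.toLinearMap Subtype.val_injective
  have hφb : Function.Bijective φ := by
    refine ⟨fun a b h => hi (T.bij.1 (by rw [← hφ, ← hφ, h])), fun w => ?_⟩
    obtain ⟨z, hz⟩ := T.bij.2 (jC w)
    obtain ⟨z', rfl⟩ : z ∈ img R := (T.mem_img_part C hC z).2 (hz ▸ ⟨w, rfl⟩)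
    exact ⟨z', hjC ((hφ z').trans hz)⟩
  let m : Ideal R := RingHom.ker χ
  let J : Ideal (R ⊗[k] A) := m.map (Algebra.TensorProduct.includeLeftRingHom : R →+* R ⊗[k] A)
  let J' : Ideal (C ⊗[k] A) := J.map φ.toRingHom
  -- `J'` generates the unit ideal of `H ⊗ A`
  have h1 : J'.map jC.toRingHom = ⊤ := by
    rw [Ideal.map_map, Ideal.map_map]
    have e1 : (jC.toRingHom.comp φ.toRingHom).comp Algebra.TensorProduct.includeLeftRingHom =
        (T.Φ.toRingHom.comp Algebra.TensorProduct.includeLeftRingHom).comp R.val.toRingHom := by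
      ext r
      change jC (φ (r ⊗ₜ 1)) = T.Φ ((r : A) ⊗ₜ 1)
      rw [hφ]
      rfl
    rw [e1, ← Ideal.map_map]
    exact (congrArg (Ideal.map _) htop).trans (Ideal.map_top _)
  -- descend along the faithfully flat `C ⊗ A → H ⊗ A`
  have h2 : J' = ⊤ := by
    letI : Algebra (C ⊗[k] A) (H ⊗[k] A) := jC.toRingHom.toAlgebra
    haveI : Module.FaithfullyFlat (C ⊗[k] A) (H ⊗[k] A) := by
      let E : (C ⊗[k] A) ⊗[C] H ≃ₐ[C] H ⊗[k] A :=
        (Algebra.TensorProduct.comm C (C ⊗[k] A) H).trans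
          (Algebra.TensorProduct.cancelBaseChange k C C H A)
      have hE : ∀ x : C ⊗[k] A, E (x ⊗ₜ 1) = jC x := fun x => by
        induction x with
        | zero => simp [TensorProduct.zero_tmul]
        | add a b ha hb => rw [TensorProduct.add_tmul, map_add, map_add, ha, hb]
        | tmul c a =>
          change ((c : C) • (1 : H)) ⊗ₜ[k] a = (c : H) ⊗ₜ[k] a
          rw [Algebra.smul_def, mul_one]
          rfl
      exact Module.FaithfullyFlat.of_linearEquiv _ _
        { toFun := E.symm, invFun := E, left_inv := E.apply_symm_apply, right_inv := E.symm_apply_apply,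
          map_add' := map_add E.symm
          map_smul' := fun c x => by
            rw [RingHom.id_apply, Algebra.smul_def, map_mul]
            have hc : E.symm (algebraMap (C ⊗[k] A) (H ⊗[k] A) c) = c ⊗ₜ[C] (1 : H) := by
              apply E.injective
              rw [E.apply_symm_apply, hE]
              rfl
            rw [hc]
            exact (Algebra.smul_def (R := C ⊗[k] A) c (E.symm x)).symm }
    rw [← Ideal.comap_map_eq_self_of_faithfullyFlat (B := H ⊗[k] A) J']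
    exact (congrArg (Ideal.comap _) h1).trans Ideal.comap_top
  have h3 : J = ⊤ := by
    rw [← Ideal.comap_map_of_bijective φ.toRingHom hφb (I := J)]
    exact (congrArg (Ideal.comap _) h2).trans Ideal.comap_top
  let ψ : R ⊗[k] A →ₐ[k] A :=
    Algebra.TensorProduct.lift ((Algebra.ofId k A).comp χ) (AlgHom.id k A) fun _ _ => Commute.all _ _
  have h4 : J ≤ RingHom.ker ψ := by
    rw [Ideal.map_le_iff_le_comap]
    intro r hr
    change ψ (r ⊗ₜ 1) = 0
    simp [ψ, show χ r = 0 from hr]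
  rw [h3] at h4
  exact one_ne_zero ((map_one ψ).symm.trans (h4 (Submodule.mem_top (x := (1 : R ⊗[k] A)))))

theorem isHopfSubalgebra_bot : SGA3.IsHopfSubalgebra k H (⊥ : Subalgebra k H) := by
  refine ⟨fun b hb => ?_, fun b hb => ?_⟩ <;> obtain ⟨c, rfl⟩ := Algebra.mem_bot.1 hb
  · refine ⟨algebraMap k (⊥ : Subalgebra k H) c ⊗ₜ 1, ?_⟩
    simp [Algebra.TensorProduct.algebraMap_apply]
  · exact Algebra.mem_bot.2 ⟨c, ((HopfAlgebra.antipodeAlgHom k H).commutes c).symm⟩

/-- The part over the trivial sub-Hopf-algebra consists of constants. -/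
theorem part_bot [Nontrivial A] : T.part ⊥ = ⊥ := by
  refine le_antisymm (sub_of_img_le (A := A) fun z hz => ?_) bot_le
  have hsub : ext (A := A) (⊥ : Subalgebra k H) ≤ (img (⊥ : Subalgebra k A)).map T.Φ := by
    rintro _ ⟨w, rfl⟩
    induction w with
    | zero => simp
    | add a b ha hb => rw [map_add]; exact Subalgebra.add_mem _ ha hb
    | tmul c y =>
      obtain ⟨r, hr⟩ := Algebra.mem_bot.1 c.2
      refine ⟨algebraMap k A r ⊗ₜ[k] y, ⟨(algebraMap k (⊥ : Subalgebra k A) r) ⊗ₜ y, rfl⟩, ?_⟩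
      simp [← hr, Algebra.TensorProduct.algebraMap_apply]
  obtain ⟨x, hx, hxz⟩ := hsub ((T.mem_img_part ⊥ isHopfSubalgebra_bot z).1 hz)
  exact T.bij.1 hxz ▸ hx

/-- A point of a part extends to a bigger part. -/
theorem exists_step [IsAlgClosed k] [Nontrivial A] (C : Subalgebra k H) (hC : SGA3.IsHopfSubalgebra k H C)
    (χ : T.part C →ₐ[k] k) (a : A) :
    ∃ (C' : Subalgebra k H) (h : T.part C ≤ T.part C') (χ' : T.part C' →ₐ[k] k),
      SGA3.IsHopfSubalgebra k H C' ∧ a ∈ T.part C' ∧ χ'.comp (Subalgebra.inclusion h) = χ := by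
  classical
  obtain ⟨s, hs⟩ := TensorProduct.exists_finset (R := k) (T.ρ a)
  obtain ⟨B, hB, hBfg, hBH⟩ := HopfSub.exists_fg k H (s.image Prod.fst)
  obtain ⟨F, hF⟩ := T.exists_part_gen hC hBH hBfg
  have hle : T.part C ≤ T.part (C ⊔ B) := T.part_mono le_sup_left
  have ha : a ∈ T.part (C ⊔ B) := by
    change T.ρ a ∈ ext (C ⊔ B)
    rw [hs]
    exact Subalgebra.sum_mem _ fun p hp =>
      ⟨(⟨p.1, le_sup_right (a := C) (hB (Finset.mem_image_of_mem _ hp))⟩ : ↥(C ⊔ B)) ⊗ₜ p.2, rfl⟩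
  let m : Ideal (T.part C) := RingHom.ker χ
  let I : Ideal A := m.map (T.part C).val
  let q : A →ₐ[k] A ⧸ I := Ideal.Quotient.mkₐ k I
  haveI : Nontrivial (A ⧸ I) := Ideal.Quotient.nontrivial_iff.2 (T.map_ker_ne_top C hC χ)
  have hqC : ∀ c : T.part C, q (c : A) = algebraMap k _ (χ c) := by
    intro c
    have hm : c - algebraMap k (T.part C) (χ c) ∈ m := by simp [m, RingHom.mem_ker]
    have h2 : q ((c - algebraMap k (T.part C) (χ c) : T.part C) : A) = 0 :=
      Ideal.Quotient.eq_zero_iff_mem.2 (Ideal.mem_map_of_mem _ hm)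
    rw [Subalgebra.coe_sub, Subalgebra.coe_algebraMap, map_sub, AlgHom.commutes, sub_eq_zero] at h2
    exact h2
  let R := (T.part (C ⊔ B)).map q
  have hR : R = (Algebra.adjoin k (F : Set A)).map q := by
    change (T.part (C ⊔ B)).map q = _
    rw [hF, Algebra.map_sup]
    refine sup_eq_right.2 ?_
    rintro - ⟨c, hc, rfl⟩
    exact hqC ⟨c, hc⟩ ▸ Subalgebra.algebraMap_mem _ _
  haveI : Algebra.FiniteType k R :=
    R.fg_iff_finiteType.1 (hR ▸ ((Algebra.adjoin k (F : Set A)).fg_iff_finiteType.2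
      ((Subalgebra.fg_iff_finiteType _).1 ⟨F, rfl⟩)).map q)
  haveI : Nontrivial R := ⟨⟨0, 1, fun h => zero_ne_one (congrArg Subtype.val h)⟩⟩
  obtain ⟨n, hn⟩ := Ideal.exists_maximal R
  obtain ⟨χ1, -⟩ := exists_point_max (k := k) n
  let p : T.part (C ⊔ B) →ₐ[k] R :=
    (q.comp (T.part (C ⊔ B)).val).codRestrict R fun x => ⟨x, x.2, rfl⟩
  refine ⟨C ⊔ B, hle, χ1.comp p, isHopfSubalgebra_sup hC hBH, ha, AlgHom.ext fun c => ?_⟩
  have : p (Subalgebra.inclusion hle c) = algebraMap k R (χ c) := Subtype.ext (hqC c)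
  simp [this]

/-- A torsor under an affine group scheme over an algebraically closed field has a point. -/
theorem exists_point [IsAlgClosed k] [Nontrivial A] (T : Torsor k H A) : Nonempty (A →ₐ[k] k) := by
  classical
  let π : A × k →ₐ[k] A := AlgHom.fst k A k
  let 𝒮 : Set (Subalgebra k (A × k)) :=
    {Γ | (∀ c : k, ((0 : A), c) ∈ Γ → c = 0) ∧ ∃ C, SGA3.IsHopfSubalgebra k H C ∧ Γ.map π = T.part C}
  have hbot : (⊥ : Subalgebra k (A × k)) ∈ 𝒮 := by
    refine ⟨fun c hc => ?_, ⊥, isHopfSubalgebra_bot, ?_⟩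
    · obtain ⟨r, hr⟩ := Algebra.mem_bot.1 hc
      have h1 : algebraMap k A r = 0 := congrArg Prod.fst hr
      have h2 : r = c := congrArg Prod.snd hr
      rw [← h2]
      exact (algebraMap k A).injective (h1.trans (map_zero _).symm)
    · rw [Algebra.map_bot, T.part_bot]
  obtain ⟨Γ, -, hmax⟩ := zorn_le_nonempty₀ 𝒮 (fun c hc hch y hy => by
    refine ⟨sSup c, ?_, fun z hz => le_sSup hz⟩
    haveI : Nonempty c := ⟨⟨y, hy⟩⟩
    have hdir : DirectedOn (· ≤ ·) c := hch.directedOn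
    have hmem : ∀ z : A × k, z ∈ sSup c → ∃ Γ ∈ c, z ∈ Γ := by
      intro z hz
      rw [sSup_eq_iSup', ← SetLike.mem_coe,
        Subalgebra.coe_iSup_of_directed hdir.directed_val, Set.mem_iUnion] at hz
      obtain ⟨Γ, hΓ⟩ := hz
      exact ⟨Γ.1, Γ.2, hΓ⟩
    choose CC hCC hΓC using fun Γ : c => (hc Γ.2).2
    have hmono : ∀ Γ Δ : c, Γ.1 ≤ Δ.1 → CC Γ ≤ CC Δ := fun Γ Δ h => by
      rw [← T.part_le_iff (hCC Γ) (hCC Δ), ← hΓC, ← hΓC]
      exact Subalgebra.map_mono h
    have hCdir : Directed (· ≤ ·) CC := fun Γ Δ => by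
      rcases hch.total Γ.2 Δ.2 with h | h
      · exact ⟨Δ, hmono Γ Δ h, le_rfl⟩
      · exact ⟨Γ, le_rfl, hmono Δ Γ h⟩
    have hCmem : ∀ h : H, h ∈ ⨆ Γ, CC Γ → ∃ Γ, h ∈ CC Γ := fun h hh => by
      rw [← SetLike.mem_coe, Subalgebra.coe_iSup_of_directed hCdir, Set.mem_iUnion] at hh
      exact hh
    refine ⟨fun a ha => ?_, ⨆ Γ, CC Γ, ⟨fun h hh => ?_, fun h hh => ?_⟩, ?_⟩
    · obtain ⟨Γ, hΓ, h⟩ := hmem _ ha
      exact (hc hΓ).1 a h
    · obtain ⟨Γ, hΓ⟩ := hCmem h hh
      exact j_range_mono (le_iSup CC Γ) ((hCC Γ).1 h hΓ)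
    · obtain ⟨Γ, hΓ⟩ := hCmem h hh
      exact le_iSup CC Γ ((hCC Γ).2 h hΓ)
    · refine le_antisymm ?_ fun a ha => ?_
      · rintro _ ⟨z, hz, rfl⟩
        obtain ⟨Γ, hΓ, h⟩ := hmem _ hz
        exact T.part_mono (le_iSup CC ⟨Γ, hΓ⟩) (hΓC ⟨Γ, hΓ⟩ ▸ ⟨z, h, rfl⟩)
      · obtain ⟨w, hw⟩ := (show T.ρ a ∈ ext (⨆ Γ, CC Γ) from ha)
        suffices ∃ Γ : c, T.ρ a ∈ ext (CC Γ) by
          obtain ⟨Γ, hΓ⟩ := this
          have h : a ∈ Γ.1.map π := (hΓC Γ).symm ▸ hΓ
          exact Subalgebra.map_mono (le_sSup Γ.2) h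
        rw [← hw]
        clear hw
        induction w with
        | zero => exact ⟨⟨y, hy⟩, by simp⟩
        | add p r hp hr =>
          obtain ⟨Γ₁, h₁⟩ := hp
          obtain ⟨Γ₂, h₂⟩ := hr
          obtain ⟨Γ₃, h₁₃, h₂₃⟩ := hCdir Γ₁ Γ₂
          exact ⟨Γ₃, by rw [map_add]; exact Subalgebra.add_mem _ (ext_mono h₁₃ h₁) (ext_mono h₂₃ h₂)⟩
        | tmul h x =>
          obtain ⟨Γ, hΓ⟩ := hCmem h.1 h.2
          exact ⟨Γ, (⟨h.1, hΓ⟩ : CC Γ) ⊗ₜ x, rfl⟩) ⊥ hbot
  obtain ⟨hΓ0, C, hC, hΓC⟩ := hmax.prop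
  let pr : Γ →ₐ[k] A := π.comp Γ.val
  have hinj : Function.Injective pr := by
    intro x y h
    have h1 : ((0 : A), x.1.2 - y.1.2) ∈ Γ := by
      have : x.1.1 = y.1.1 := h
      have e : x.1 - y.1 = ((0 : A), x.1.2 - y.1.2) := Prod.ext (sub_eq_zero.2 this) rfl
      exact e ▸ Γ.sub_mem x.2 y.2
    exact Subtype.ext (Prod.ext h (sub_eq_zero.1 (hΓ0 _ h1)))
  have hD : pr.range = T.part C := by
    rw [AlgHom.range_comp, Subalgebra.range_val, hΓC]
  let e : Γ ≃ₐ[k] T.part C := (AlgEquiv.ofInjective pr hinj).trans (Subalgebra.equivOfEq _ _ hD)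
  let χ : T.part C →ₐ[k] k := ((AlgHom.snd k A k).comp Γ.val).comp e.symm.toAlgHom
  have htop : ∀ a : A, a ∈ T.part C := by
    intro a
    obtain ⟨C', hle, χ', hC', ha, hext⟩ := T.exists_step C hC χ a
    let Γ' : Subalgebra k (A × k) := ((T.part C').val.prod χ').range
    have hle' : Γ ≤ Γ' := by
      intro z hz
      refine ⟨⟨z.1, hle (hΓC ▸ ⟨z, hz, rfl⟩)⟩, Prod.ext rfl ?_⟩
      refine (AlgHom.congr_fun hext ⟨z.1, hΓC ▸ ⟨z, hz, rfl⟩⟩).trans ?_
      have h5 : (⟨z.1, hΓC ▸ ⟨z, hz, rfl⟩⟩ : T.part C) = e ⟨z, hz⟩ := rfl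
      change (e.symm _).1.2 = z.2
      rw [h5, AlgEquiv.symm_apply_apply]
    have hΓ' : Γ' ∈ 𝒮 := by
      refine ⟨?_, C', hC', ?_⟩
      · rintro c ⟨x, hx⟩
        have h1 : x = 0 := Subtype.ext (congrArg Prod.fst hx)
        have h2 : χ' x = c := congrArg Prod.snd hx
        simp [← h2, h1]
      · rw [← AlgHom.range_comp]
        ext b
        exact ⟨by rintro ⟨x, rfl⟩; exact x.2, fun hb => ⟨⟨b, hb⟩, rfl⟩⟩
    have h := hmax.eq_of_le hΓ' hle'
    rw [← hΓC]
    exact ⟨(a, χ' ⟨a, ha⟩), h ▸ ⟨⟨a, ha⟩, rfl⟩, rfl⟩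
  exact ⟨χ.comp ((AlgHom.id k A).codRestrict _ htop)⟩

end Torsor

end Groth.L09.TorsorPoint
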