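import Groth.Agent.L09.TorsorPoint.Extend
import Groth.Agent.L09.TorsorSch
import Groth.Agent.L13.CGrpExt.Descend
import Mathlib.AlgebraicGeometry.Group.Affine

/-!
# Torsors under affine group schemes over an algebraically closed field
-/

set_option autoImplicit false
set_option linter.style.haveILetI false
set_option backward.isDefEq.respectTransparency.types false

universe u

open CategoryTheory MonoidalCategory CartesianMonoidalCategory MonObj AlgebraicGeometry Opposite TensorProduct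

noncomputable section

namespace Groth.L09.TorsorPoint

variable {R : CommRingCat.{u}}

/-- An affine scheme over a field as the spectrum of an algebra. -/
theorem exists_algSpec_iso (P : Over (Spec R)) [IsAffine P.left] :
    ∃ A : CommAlgCat.{u} R, Nonempty ((algSpec R).obj (op A) ≅ P) := by
  let φ : CommRingCat.of R ⟶ Γ(P.left, ⊤) := (Scheme.ΓSpecIso R).inv ≫ P.hom.appTop
  letI := φ.hom.toAlgebra
  refine ⟨CommAlgCat.of R Γ(P.left, ⊤), ⟨Over.isoMk P.left.isoSpec.symm ?_⟩⟩
  show P.left.isoSpec.inv ≫ P.hom = Spec.map φ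
  rw [Iso.inv_comp_eq, Scheme.isoSpec_hom, Spec.map_comp, ← Scheme.toSpecΓ_naturality_assoc,
    toSpecΓ_SpecMap_ΓSpecIso_inv, Category.comp_id]

theorem nonempty_of_isTorsorFor {S : Scheme.{u}} {G X : Over S} [GrpObj G] (hS : Nonempty S)
    (a : AlgGrp.Action G X) (ha : NonAbH1.IsTorsorFor Scheme.fpqcPrecoverage a) : Nonempty X.left := by
  haveI : Surjective X.hom := Groth.L09.TorsorSch.of_grp @Surjective a ha (Groth.L25.Actions.surjective_grp G)
  obtain ⟨s⟩ := hS
  exact ⟨(X.hom.surjective s).choose⟩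

set_option maxHeartbeats 800000 in
/-- An action with bijective shear between affine schemes is a coaction with bijective shear. -/
theorem exists_coaction (G : Over (Spec R)) [GrpObj G] [IsAffine G.left] (P : Over (Spec R)) [IsAffine P.left]
    (a : AlgGrp.Action G P) (hP : IsIso (lift a.act (snd G P))) :
    ∃ (H : Type u) (_ : CommRing H) (_ : HopfAlgebra R H) (A : Type u) (_ : CommRing A) (_ : Algebra R A)
      (ρ : A →ₐ[R] H ⊗[R] A),
      ((Algebra.TensorProduct.assoc R R R H H A).toAlgHom.comp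
          ((Algebra.TensorProduct.map (Bialgebra.comulAlgHom R H) (AlgHom.id R A)).comp ρ) =
        (Algebra.TensorProduct.map (AlgHom.id R H) ρ).comp ρ) ∧
      Function.Bijective
        (Algebra.TensorProduct.lift ρ Algebra.TensorProduct.includeRight fun _ _ => Commute.all _ _) ∧
      Nonempty (Spec (CommRingCat.of A) ≅ P.left) ∧ ((A →ₐ[R] R) → Nonempty (𝟙_ (Over (Spec R)) ⟶ P)) := by
  obtain ⟨A, ⟨eP⟩⟩ := exists_algSpec_iso P
  obtain ⟨H, ⟨eG⟩⟩ := (essImage_hopfSpec (G := ({ X := G } : Grp _))).2 ‹IsAffine G.left›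
  let Hk : (CommAlgCat.{u} R)ᵒᵖ := op (CommAlgCat.of R H.unop)
  let Ak : (CommAlgCat.{u} R)ᵒᵖ := op A
  let g : (algSpec R).obj Hk ≅ G := (Grp.forget _).mapIso eG
  -- the multiplication
  let μH : Hk ⊗ Hk ⟶ Hk := (CommAlgCat.ofHom (Bialgebra.comulAlgHom R H.unop)).op
  have hμ : Functor.LaxMonoidal.μ (algSpec R) Hk Hk ≫ (algSpec R).map μH ≫ g.hom = (g.hom ⊗ₘ g.hom) ≫ μ[G] := by
    have h := (IsMonHom.mul_hom (f := eG.hom.hom.hom) :)
    rw [← Category.assoc]
    with_unfolding_all exact h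
  -- the action
  obtain ⟨act, hact⟩ := (algSpec R).map_surjective
    (Functor.OplaxMonoidal.δ (algSpec R) Hk Ak ≫ (g.hom ⊗ₘ eP.hom) ≫ a.act ≫ eP.inv)
  have hact' : Functor.LaxMonoidal.μ (algSpec R) Hk Ak ≫ (algSpec R).map act ≫ eP.hom = (g.hom ⊗ₘ eP.hom) ≫ a.act := by
    rw [hact]; simp
  have hassoc : (μH ▷ Ak) ≫ act = (α_ Hk Hk Ak).hom ≫ (Hk ◁ act) ≫ act := by
    apply (algSpec R).map_injective
    rw [← cancel_epi (Functor.LaxMonoidal.μ (algSpec R) (Hk ⊗ Hk) Ak),
      ← cancel_epi (Functor.LaxMonoidal.μ (algSpec R) Hk Hk ▷ (algSpec R).obj Ak), ← cancel_mono eP.hom]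
    simp only [Functor.map_comp, Category.assoc]
    rw [← Functor.LaxMonoidal.μ_natural_left_assoc, hact', Functor.LaxMonoidal.associativity_assoc,
      ← Functor.LaxMonoidal.μ_natural_right_assoc, hact', ← comp_whiskerRight_assoc]
    simp only [whiskerRight_comp_tensorHom_assoc, whiskerLeft_comp_tensorHom_assoc, Category.assoc, hμ, hact']
    rw [← tensorHom_comp_whiskerRight_assoc, a.mul_act, associator_naturality_assoc,
      tensorHom_comp_whiskerLeft_assoc]
  haveI : IsIso (lift act (snd Hk Ak)) := by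
    haveI := hP
    have h : Functor.LaxMonoidal.μ (algSpec R) Hk Ak ≫ (algSpec R).map (lift act (snd Hk Ak)) =
        ((g.hom ⊗ₘ eP.hom) ≫ lift a.act (snd G P) ≫ (eP.inv ⊗ₘ eP.inv)) ≫ Functor.LaxMonoidal.μ (algSpec R) Ak Ak := by
      rw [← Functor.Monoidal.lift_μ, ← Category.assoc]
      congr 1
      rw [lift_map, comp_lift, comp_lift]
      congr 1
      · rw [← reassoc_of% hact', eP.hom_inv_id, Category.comp_id]
      · rw [← Category.assoc (g.hom ⊗ₘ eP.hom), tensorHom_snd, Category.assoc, eP.hom_inv_id, Category.comp_id,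
          Functor.Monoidal.μ_snd]
    haveI : IsIso (Functor.LaxMonoidal.μ (algSpec R) Hk Ak ≫ (algSpec R).map (lift act (snd Hk Ak))) := by rw [h]; infer_instance
    haveI := IsIso.of_isIso_comp_left (Functor.LaxMonoidal.μ (algSpec R) Hk Ak) ((algSpec R).map (lift act (snd Hk Ak)))
    exact isIso_of_fully_faithful (algSpec R) _
  refine ⟨H.unop, inferInstance, inferInstance, A, inferInstance, inferInstance, act.unop.hom, ?_,
    ?_, ⟨(Over.forget _).mapIso eP⟩, fun χ => ?_⟩
  · have h := congrArg (fun z => z.unop.hom) hassoc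
    simp only [unop_comp, CommAlgCat.hom_comp] at h
    refine AlgHom.ext fun x => ?_
    have hx := AlgHom.congr_fun h x
    have h2 := congrArg (Algebra.TensorProduct.assoc R R R H.unop H.unop A) hx
    with_unfolding_all exact h2.trans (AlgEquiv.apply_symm_apply (Algebra.TensorProduct.assoc R R R H.unop H.unop A) _)
  · haveI : IsIso (lift act (snd Hk Ak)).unop := inferInstance
    exact ConcreteCategory.bijective_of_isIso (lift act (snd Hk Ak)).unop
  · let χ' : (𝟙_ (CommAlgCat.{u} R)ᵒᵖ) ⟶ Ak := (CommAlgCat.ofHom χ).op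
    exact ⟨Functor.LaxMonoidal.ε (algSpec R) ≫ (algSpec R).map χ' ≫ eP.hom⟩

theorem exists_point_of_isTorsorFor {k : Type u} [Field k] [IsAlgClosed k]
    (G : Over (Spec (CommRingCat.of k))) [GrpObj G] [IsAffine G.left] (P : Over (Spec (CommRingCat.of k)))
    (a : AlgGrp.Action G P) (hP : NonAbH1.IsTorsorFor Scheme.fpqcPrecoverage a) :
    Nonempty (𝟙_ (Over (Spec (CommRingCat.of k))) ⟶ P) := by
  haveI : IsAffineHom G.hom := isAffineHom_of_isAffine _
  haveI : IsAffineHom P.hom := Groth.L09.TorsorSch.of_grp @IsAffineHom a hP inferInstance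
  haveI : IsAffine P.left := isAffine_of_isAffineHom P.hom
  obtain ⟨H, _, _, A, _, _, ρ, hc, hb, ⟨e⟩, hpt⟩ := exists_coaction G P a hP.1
  let T : Torsor k H A := ⟨ρ, hc, hb⟩
  haveI : Nontrivial A := by
    obtain ⟨x⟩ := nonempty_of_isTorsorFor ⟨IsLocalRing.closedPoint k⟩ a hP
    haveI : Nonempty (PrimeSpectrum A) := ⟨e.inv.base x⟩
    exact PrimeSpectrum.nonempty_iff_nontrivial.1 this
  obtain ⟨χ⟩ := T.exists_point
  exact hpt χ

end Groth.L09.TorsorPoint
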